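import Cfsg.Agent.Lib.SFourFree67.Quot
import Cfsg.Agent.Lib.GlaubermanTwo54.Strong54
import Cfsg.Agent.Lib.Goldschmidt53.Interface
import Cfsg.Agent.Lib.Goldschmidt92.Main
import Cfsg.Agent.Lib.Walter.Assemble
import Cfsg.Agent.Lib.Walter.Fusion
import Cfsg.Agent.Lib.SThreeFree21.Statement
import Cfsg.Agent.S1644
import Cfsg.Agent.Lib.Linear.SmallIso.PSL5

/-!
# Finite simple groups without a section `S₄`

helper67.  In a minimal counterexample every composition factor of a 2-constrained section is
`S₃`-free, so Glauberman's theorem gives a strongly closed elementary abelian 2-subgroup and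
Goldschmidt's theorem applies.  The hypotheses are Goldschmidt's theorem, the exclusion of field
automorphisms and the order theorem for groups of Janko-Ree type.
-/

set_option autoImplicit false
set_option linter.style.haveILetI false

universe u

open Subgroup

namespace Cfsg.Agent.Lib.SFourFree67

open Transfer.InvolvesS4 (involves_of_injective involves_of_surjective involves_of_hom)

/-- From Goldschmidt's list to the list of Goldschmidt groups. -/
theorem goldschmidt_of_known (hZ : Walter.PropNoField.{u}) (hO : Walter.PropOrder.{u})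
    {L : Type u} [Group L] [Finite L] (hna : ¬ IsMulCommutative L)
    (h : Goldschmidt53.IsKnown L) : Cfsg.IsGoldschmidtGroup L := by
  haveI : Fact (Nat.Prime 2) := ⟨Nat.prime_two⟩
  rcases h with (⟨n, F, hF, hF', hn, hc, e⟩ | ⟨F, hF, hF', hq, h5, e⟩ | hJ) |
    (h | ⟨F, hF, hF', n, hn, hc, e⟩)
  · exact Or.inr (Or.inl ⟨F, hF, hF', n, hn, hc, e⟩)
  · exact Or.inr (Or.inr (Or.inr (Or.inr (Or.inl ⟨F, hF, hF', _, rfl, h5, hq, e⟩))))
  · haveI := hJ.simple
    obtain ⟨S⟩ : Nonempty (Sylow 2 L) := inferInstance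
    obtain ⟨t, ht⟩ := exists_prime_orderOf_dvd_card' (G := L) 2
      ((show 2 ∣ 8 by norm_num).trans (hJ.card_sylow S ▸ Subgroup.card_subgroup_dvd_card _))
    obtain ⟨E, E₀, hE⟩ := hJ.centralizer t ht
    have hEE := hZ L hJ t ht E E₀ hE
    obtain ⟨F, hF, hF', hq, h5, ⟨e⟩⟩ := hE.2.2.2.2.1
    subst hEE
    obtain ⟨d⟩ := Walter.prod_equiv ht hE.1
    have hab : ∀ P : Sylow 2 L, IsMulCommutative ↥(P : Subgroup L) :=
      fun P => (hJ.elementary P).1
    rcases hO L (fun P a b => by haveI := hab P; exact mul_comm' a b) F (by omega) t ht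
        ⟨d.trans ((MulEquiv.refl _).prodCongr e)⟩ with ⟨m, hm, hF3, -⟩ | ⟨h45, -⟩
    · refine Or.inl ⟨hJ.simple, hna, t, E, m, hm, ht, ?_, hE.1, F, hF, hF', hF3, ⟨e⟩⟩
      set T := Classical.choice (inferInstance : Nonempty (Sylow 2 ↥(centralizer ({t} : Set L))))
      -- a Sylow subgroup through `t` centralises it
      obtain ⟨P, hP⟩ := (IsPGroup.of_card (n := 1) (show Nat.card ↥(zpowers t) = 2 ^ 1 by
        rw [Nat.card_zpowers, ht, pow_one])).exists_le_sylow
      have hle : (P : Subgroup L) ≤ centralizer ({t} : Set L) := fun x hx =>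
        mem_centralizer_singleton_iff.2 (by
          haveI := hab P
          exact setLike_mul_comm (s := (P : Subgroup L)) hx (hP (mem_zpowers t)))
      rw [Nat.odd_iff, ← Nat.not_even_iff, even_iff_two_dvd]
      exact fun hd => P.not_dvd_index (hd.trans (Subgroup.index_dvd_of_le hle))
    · obtain ⟨e5⟩ := Linear.SmallIso.nonempty_psl_two_five (F := F) (by omega)
      exact Or.inr (Or.inr (Or.inr (Or.inr (Or.inr (Cfsg.Agent.S1644.result S (hab S)
        (hJ.card_sylow S) t ht
        (d.trans ((MulEquiv.refl _).prodCongr (e.trans e5))))))))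
  · exact Or.inr (Or.inr (Or.inl h))
  · exact Or.inr (Or.inr (Or.inr (Or.inl ⟨F, hF, hF', n, hn, by
      rw [hc, show (4 : ℕ) = 2 ^ 2 from rfl, ← pow_mul, ← pow_mul, mul_comm], e⟩)))

/-- A non-abelian simple composition factor of a 2-constrained group `Y` is smaller than `Y` and
involved in `Y / O₂(Y)`. -/
theorem factor_data {Y : Type u} [Group Y] [Finite Y]
    (hc : Subgroup.centralizer (Cfsg.pCore 2 Y : Set Y) ≤ Cfsg.pCore 2 Y)
    (H : Subgroup Y) (N : Subgroup ↥H) [N.Normal] (hs : IsSimpleGroup (↥H ⧸ N))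
    (hna : ¬ IsMulCommutative (↥H ⧸ N)) :
    Nat.card (↥H ⧸ N) < Nat.card Y ∧ ∀ {T : Type} [Group T], Cfsg.Involves T (↥H ⧸ N) →
      Cfsg.Involves T (Y ⧸ Cfsg.pCore 2 Y) := by
  haveI : Fact (Nat.Prime 2) := ⟨Nat.prime_two⟩
  set π := QuotientGroup.mk' (Cfsg.pCore 2 Y) with hπ
  let ρ : ↥H →* ↥(H.map π) := π.subgroupMap H
  have hρ : Function.Surjective ρ := π.subgroupMap_surjective H
  set q := QuotientGroup.mk' N with hq
  have hker : ρ.ker ≤ N := by
    have hp : IsPGroup 2 ↥ρ.ker := by
      refine (Cores.pCore_isPGroup (G := Y) 2).of_injective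
        (MonoidHom.codRestrict ((H.subtype).comp ρ.ker.subtype) _ fun x => ?_) ?_
      · have := congrArg Subtype.val (x.2 : ρ (x : ↥H) = 1)
        exact (QuotientGroup.eq_one_iff _).1 this
      · intro x y hxy
        exact Subtype.ext (Subtype.ext (congrArg (fun z => ((z : ↥(Cfsg.pCore 2 Y)) : Y)) hxy))
    have hm : ((ρ.ker).map q).Normal := ρ.normal_ker.map _ (QuotientGroup.mk'_surjective N)
    rcases hm.eq_bot_or_eq_top with h | h
    · rwa [Subgroup.map_eq_bot_iff, hq, QuotientGroup.ker_mk'] at h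
    · exfalso
      have h2 : IsPGroup 2 (↥H ⧸ N) := by
        have := hp.map q
        rw [h] at this
        exact this.of_equiv Subgroup.topEquiv
      haveI := h2.isNilpotent
      exact KnownSimple.not_isSolvable_of_simple hs hna inferInstance
  let ψ : ↥(H.map π) →* ↥H ⧸ N :=
    MonoidHom.liftOfSurjective ρ hρ ⟨q, by rw [hq, QuotientGroup.ker_mk']; exact hker⟩
  have hψ : Function.Surjective ψ := by
    intro y
    obtain ⟨x, rfl⟩ := QuotientGroup.mk'_surjective N y
    exact ⟨ρ x, ρ.liftOfRightInverse_comp_apply _ _ _ x⟩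
  constructor
  · have h1 : Nat.card (↥H ⧸ N) ≤ Nat.card ↥(H.map π) := Nat.card_le_card_of_surjective ψ hψ
    have h2 := Subgroup.card_le_card_group (H.map π)
    have h3 : Nat.card (Y ⧸ Cfsg.pCore 2 Y) * Nat.card ↥(Cfsg.pCore 2 Y) = Nat.card Y :=
      (Subgroup.card_eq_card_quotient_mul_card_subgroup _).symm
    have h4 : 1 < Nat.card ↥(Cfsg.pCore 2 Y) := by
      rw [Subgroup.one_lt_card_iff_ne_bot]
      intro hb
      rw [hb] at hc
      have hY : (⊤ : Subgroup Y) = ⊥ :=
        le_bot_iff.1 (le_trans (fun x _ => mem_centralizer_iff.2 fun y hy => by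
          rw [SetLike.mem_coe, mem_bot] at hy; subst hy; simp) hc)
      haveI : Subsingleton Y := Subgroup.subsingleton_iff.1 (subsingleton_of_bot_eq_top hY.symm)
      haveI := hs.toNontrivial
      exact not_subsingleton (↥H ⧸ N) inferInstance
    have h5 : Nat.card (↥H ⧸ N) ≤ Nat.card (Y ⧸ Cfsg.pCore 2 Y) := h1.trans h2
    have h6 : 0 < Nat.card (↥H ⧸ N) := Nat.card_pos
    nlinarith
  · intro T _ h
    exact involves_of_injective (H.map π).subtype (Subgroup.subtype_injective _)
      (involves_of_surjective ψ hψ h)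

/-- A simple group without a section `S₄` is a Goldschmidt group. -/
theorem goldschmidt_of_free (hS : Goldschmidt53.PropSimple.{u}) (hZ : Walter.PropNoField.{u})
    (hO : Walter.PropOrder.{u}) :
    ∀ (G : Type u) [Group G] [Finite G], IsSimpleGroup G → ¬ IsMulCommutative G →
      ¬ Cfsg.Involves (Equiv.Perm (Fin 4)) G → Cfsg.IsGoldschmidtGroup G := by
  suffices ∀ (n : ℕ) (G : Type u) [Group G] [Finite G], Nat.card G = n → IsSimpleGroup G →
      ¬ IsMulCommutative G → ¬ Cfsg.Involves (Equiv.Perm (Fin 4)) G →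
      Cfsg.IsGoldschmidtGroup G from fun G _ _ hs hna hf => this _ G rfl hs hna hf
  intro n
  induction n using Nat.strong_induction_on with
  | _ n ih =>
    intro G _ _ hn hs hna hfree
    haveI : Fact (Nat.Prime 2) := ⟨Nat.prime_two⟩
    have hsec : GlaubermanTwo54.SecTyp G := by
      intro K O hO' hc H _ N hN hLs hLna
      refine Or.inl ?_
      obtain ⟨hlt, hinv⟩ := factor_data hc H N hLs hLna
      have hY4 : ¬ Cfsg.Involves (Equiv.Perm (Fin 4)) (↥K ⧸ O) := fun h => hfree
        (involves_of_injective K.subtype K.subtype_injective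
          (involves_of_surjective (QuotientGroup.mk' O) (QuotientGroup.mk'_surjective O) h))
      have hL4 : ¬ Cfsg.Involves (Equiv.Perm (Fin 4)) (↥H ⧸ N) := fun h => hY4
        (involves_of_injective H.subtype H.subtype_injective
          (involves_of_surjective (QuotientGroup.mk' N) (QuotientGroup.mk'_surjective N) h))
      have hle : Nat.card (↥K ⧸ O) ≤ Nat.card G :=
        (Nat.card_le_card_of_surjective _ (QuotientGroup.mk'_surjective O)).trans
          (Subgroup.card_le_card_group K)
      exact Goldschmidt92.target_of_noS3 hO (ih _ (by omega) _ rfl hLs hLna hL4)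
        fun h => noS3_quot hY4 hc (hinv h)
    obtain ⟨S⟩ : Nonempty (Sylow 2 G) := inferInstance
    have hSne : (S : Subgroup G) ≠ ⊥ := by
      intro hb
      have h2 := (Walter.even_card_of_simple hs hna).two_dvd
      exact S.not_dvd_index (by rw [hb, Subgroup.index_bot]; exact h2)
    set A := GlaubermanTwo54.ncZ (S : Subgroup G)
      (Subgroup.normalizer (Cfsg.thompsonSubgroupOf 2 (S : Subgroup G) : Set G)) with hA
    have hel : Cfsg.IsElementaryAbelian 2 A :=
      PGroups.elemAb_mono (PLocal.omegaCenterOf_elemAb _) (GlaubermanTwo54.ncZ_le_omega S)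
    have hne : A ≠ ⊥ := fun h => SFourFree.omegaCenterOf_ne_bot S.2 hSne (le_bot_iff.1 (h ▸
      GlaubermanTwo54.le_ncZ ((PLocal.omegaCenterOf_le _).trans
        (Subgroup.le_normalizer.trans (PGroups.normalizer_le_normalizer_thompson _)))))
    exact goldschmidt_of_known hZ hO hna (hS (Nat.card G + 1) G (Nat.lt_succ_self _) hs hna S A hne
      hel (GlaubermanTwo54.isStronglyClosed_ncZ S hfree hsec)).1

/-- The statement of S2754. -/
theorem row2754 (hS : Goldschmidt53.PropSimple.{u}) (hZ : Walter.PropNoField.{u})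
    (hO : Walter.PropOrder.{u}) {G : Type u} [Group G] [Finite G] [IsSimpleGroup G]
    (hna : ¬ IsMulCommutative G) :
    ¬ Cfsg.Involves (Equiv.Perm (Fin 4)) G ↔ Cfsg.IsGoldschmidtGroup G :=
  ⟨goldschmidt_of_free hS hZ hO G inferInstance hna, Goldschmidt92.not_involves_S4⟩

/-- Simple groups without a section `S₃`. -/
theorem sThreeFreeSimple (hS : Goldschmidt53.PropSimple.{u}) (hZ : Walter.PropNoField.{u})
    (hO : Walter.PropOrder.{u}) : SThreeFree21.SThreeFreeSimple.{u} := by
  intro G _ _ hs hab h3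
  have hna : ¬ IsMulCommutative G := fun h => by
    obtain ⟨a, b, hne⟩ := hab
    exact hne (h.1.1 a b)
  refine Goldschmidt92.target_of_noS3 hO
    (goldschmidt_of_free hS hZ hO G hs hna fun h4 => h3 ?_) h3
  obtain ⟨K, φ, hφ⟩ := Transfer.InvolvesS4.exists_hom_of_involves h4
  refine involves_of_injective K.subtype K.subtype_injective
    (involves_of_surjective φ hφ ?_)
  exact Goldschmidt92.involves_S3_of_inverted (x := Equiv.swap (0 : Fin 4) 1 * Equiv.swap 1 2)
    (t := Equiv.swap (0 : Fin 4) 1) (by decide) (by decide) (by decide) (by decide) (by decide)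

end Cfsg.Agent.Lib.SFourFree67
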