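import Cfsg.Agent.Lib.FourFree.Section
import Cfsg.Agent.Lib.Coprime.Commutator
import Cfsg.Agent.Lib.Cores.Basic
import Cfsg.Agent.Lib.PGroups.Frattini
import Cfsg.Agent.Lib.PGroups.Omega

/-!
# A 2-constrained group without a section `S₄` has no section `S₃` above its 2-core

helper67.  A 2-element inverting an element `z` of order three which acts non-trivially on `O₂`
gives a natural module of `S₃` in `O₂ / Φ(O₂)`, hence a section `S₄`.
-/

set_option autoImplicit false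
set_option linter.style.haveILetI false

open Subgroup
open scoped commutatorElement

namespace Cfsg.Agent.Lib.SFourFree67

open Transfer.InvolvesS4 (exists_hom_of_involves involves_of_surjective)

theorem module_four {Y : Type*} [Group Y] [Finite Y] {V : Subgroup Y}
    (hV2 : ∀ v ∈ V, v * v = 1) {z t : Y} (hzV : ∀ v ∈ V, z * v * z⁻¹ ∈ V)
    (htV : ∀ v ∈ V, t * v * t⁻¹ ∈ V) (hz3 : z ^ 3 = 1) (hinv : t * z * t⁻¹ = z⁻¹)
    (ht : IsPGroup 2 ↥(zpowers t)) (hne : ∃ v ∈ V, z * v * z⁻¹ ≠ v) :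
    Cfsg.Involves (Equiv.Perm (Fin 4)) Y := by
  haveI : Fact (Nat.Prime 2) := ⟨Nat.prime_two⟩
  have hiV : ∀ v ∈ V, v⁻¹ = v := fun v hv => inv_eq_of_mul_eq_one_right (hV2 v hv)
  have hcomm : ∀ u ∈ V, ∀ v ∈ V, u * v = v * u := fun u hu v hv => by
    rw [← hiV _ (mul_mem hu hv), mul_inv_rev, hiV u hu, hiV v hv]
  -- `c`: conjugation by `z`
  let c : MulAut Y := MulAut.conj z
  have hc : ∀ v, c v = z * v * z⁻¹ := fun v => rfl
  have hc3 : ∀ v, c (c (c v)) = v := fun v => by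
    simp only [hc]
    calc z * (z * (z * v * z⁻¹) * z⁻¹) * z⁻¹ = z ^ 3 * v * (z ^ 3)⁻¹ := by rw [pow_three']; group
      _ = v := by rw [hz3]; group
  have hcV : ∀ v ∈ V, c v ∈ V := hzV
  -- the kernel of `1 + c + c²`
  let W : Subgroup Y :=
    { carrier := {v | v ∈ V ∧ v * c v * c (c v) = 1}
      one_mem' := ⟨V.one_mem, by simp⟩
      mul_mem' := by
        rintro a b ⟨ha, ha'⟩ ⟨hb, hb'⟩
        refine ⟨mul_mem ha hb, ?_⟩
        rw [map_mul, map_mul]
        have e1 := hcomm b hb (c a) (hcV a ha)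
        have e2 := hcomm (b * c b) (mul_mem hb (hcV b hb)) (c (c a)) (hcV _ (hcV a ha))
        calc a * b * (c a * c b) * (c (c a) * c (c b))
            = a * (b * c a) * c b * (c (c a) * c (c b)) := by group
          _ = a * (c a * b) * c b * (c (c a) * c (c b)) := by rw [e1]
          _ = a * c a * ((b * c b) * c (c a)) * c (c b) := by group
          _ = a * c a * (c (c a) * (b * c b)) * c (c b) := by rw [e2]
          _ = a * c a * c (c a) * (b * c b * c (c b)) := by group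
          _ = 1 := by rw [ha', hb', one_mul]
      inv_mem' := by
        rintro a ⟨ha, ha'⟩
        refine ⟨inv_mem ha, ?_⟩
        rw [hiV a ha]; exact ha' }
  have hWle : W ≤ V := fun v hv => hv.1
  have hz2 : z * z = z⁻¹ :=
    eq_inv_of_mul_eq_one_left (by rw [← pow_three']; exact hz3)
  -- `t` normalises `W`
  have htW : ∀ v ∈ W, t * v * t⁻¹ ∈ W := by
    rintro v ⟨hv, hv'⟩
    refine ⟨htV v hv, ?_⟩
    have e3 : ∀ w : Y, c (t * w * t⁻¹) = t * c (c w) * t⁻¹ := fun w => by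
      simp only [hc]
      have h1 : t * z⁻¹ * t⁻¹ = z := by
        rw [show t * z⁻¹ * t⁻¹ = (t * z * t⁻¹)⁻¹ by group, hinv, inv_inv]
      have h2 : z * t = t * z⁻¹ := by
        calc z * t = (t * z⁻¹ * t⁻¹) * t := by rw [h1]
          _ = t * z⁻¹ := by group
      have h3 : t⁻¹ * z⁻¹ = z * t⁻¹ := by rw [← hinv]; group
      calc z * (t * w * t⁻¹) * z⁻¹ = (z * t) * w * (t⁻¹ * z⁻¹) := by group
        _ = t * z⁻¹ * w * (z * t⁻¹) := by rw [h2, h3]
        _ = t * (z * z) * w * ((z * z)⁻¹ * t⁻¹) := by rw [hz2, inv_inv]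
        _ = _ := by group
    have e1 := e3 v
    have e2 : c (c (t * v * t⁻¹)) = t * c v * t⁻¹ := by rw [e1, e3, hc3]
    rw [e2, e1]
    calc t * v * t⁻¹ * (t * c (c v) * t⁻¹) * (t * c v * t⁻¹)
        = t * (v * (c (c v) * c v)) * t⁻¹ := by group
      _ = t * (v * c v * c (c v)) * t⁻¹ := by
          rw [hcomm _ (hcV _ (hcV v hv)) _ (hcV v hv), mul_assoc v]
      _ = 1 := by rw [hv']; group
  have htN : zpowers t ≤ normalizer (W : Set Y) := by
    rw [zpowers_le, Subgroup.mem_normalizer_iff]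
    have hle : W.map (MulAut.conj t).toMonoidHom ≤ W := by
      rintro _ ⟨v, hv, rfl⟩; exact htW v hv
    have heq : W.map (MulAut.conj t).toMonoidHom = W :=
      eq_of_le_of_card_ge hle (card_map_of_injective (MulAut.conj t).injective).ge
    intro v
    refine ⟨fun hv => htW v hv, fun hv => ?_⟩
    rw [← heq] at hv
    obtain ⟨w, hw, hwe⟩ := hv
    rwa [← (MulAut.conj t).injective (show MulAut.conj t w = MulAut.conj t v from hwe)]
  have hWp : IsPGroup 2 ↥W := fun v => ⟨1, Subtype.ext (by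
    rw [pow_one, pow_two]; exact hV2 _ v.2.1)⟩
  have hWne : W ≠ ⊥ := by
    obtain ⟨v, hv, hvne⟩ := hne
    intro h
    have hmem : v⁻¹ * c v ∈ W := by
      refine ⟨mul_mem (inv_mem hv) (hcV v hv), ?_⟩
      rw [map_mul, map_mul, map_inv, map_inv, hc3]
      group
    rw [h, mem_bot, inv_mul_eq_one] at hmem
    exact hvne hmem.symm
  -- a fixed point of `t` on `W`
  set T := W ⊔ zpowers t with hT
  have hTp : IsPGroup 2 ↥T := hWp.to_sup_of_normal_left' ht htN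
  haveI : (W.subgroupOf T).Normal :=
    (normal_subgroupOf_iff_le_normalizer le_sup_left).2 (sup_le le_normalizer htN)
  have hWT : W.subgroupOf T ≠ ⊥ := by
    rw [Ne, subgroupOf_eq_bot, disjoint_iff, inf_eq_left.2 le_sup_left]
    exact hWne
  obtain ⟨⟨f, hfT⟩, ⟨hfW, hfZ⟩, hf1⟩ :=
    (bot_or_exists_ne_one (W.subgroupOf T ⊓ center ↥T)).resolve_left
      (PGroups.normal_inf_center_ne_bot hTp _ hWT)
  have hfW' : f ∈ W := hfW
  have hf1' : f ≠ 1 := fun h => hf1 (Subtype.ext h)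
  have htf : t * f * t⁻¹ = f := by
    have := congrArg Subtype.val (Subgroup.mem_center_iff.1 hfZ ⟨t, mem_sup_right (mem_zpowers t)⟩)
    simp only [Subgroup.coe_mul] at this
    rw [this, mul_inv_cancel_right]
  set e := c f with he
  have heV : e ∈ V := hcV f (hWle hfW')
  have hce : c e = e * f := by
    have h := hfW'.2
    rw [← he] at h
    rw [eq_inv_of_mul_eq_one_right h, mul_inv_rev, hiV e heV, hiV f (hWle hfW')]
  have he1 : e ≠ 1 := fun h => hf1' (c.injective (h.trans (map_one c).symm))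
  have hne' : e ≠ f := by
    intro h
    rw [h] at hce
    rw [← he, h, hV2 f (hWle hfW')] at hce
    exact hf1' hce
  have h1 : t * z⁻¹ * t⁻¹ = z := by
    rw [show t * z⁻¹ * t⁻¹ = (t * z * t⁻¹)⁻¹ by group, hinv, inv_inv]
  refine FourFree.Section.involves_s4 (a := z * t * z⁻¹) (b := t) (hV2 e heV)
    (hV2 f (hWle hfW')) (hcomm e heV f (hWle hfW')) he1 hf1' hne' ?_ ?_ htf ?_
  · rw [he, hc]
    calc z * t * z⁻¹ * (z * f * z⁻¹) * (z * t * z⁻¹)⁻¹ = z * (t * f * t⁻¹) * z⁻¹ := by group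
      _ = z * f * z⁻¹ := by rw [htf]
  · have h2 : t * z⁻¹ = z * t := by
      calc t * z⁻¹ = (t * z⁻¹ * t⁻¹) * t := by group
        _ = z * t := by rw [h1]
    have h3 : z * t⁻¹ = t⁻¹ * z⁻¹ := by rw [← hinv]; group
    rw [← hce, he, hc, hc]
    calc z * t * z⁻¹ * f * (z * t * z⁻¹)⁻¹ = z * (t * z⁻¹) * f * (z * t⁻¹) * z⁻¹ := by group
      _ = z * (z * t) * f * (t⁻¹ * z⁻¹) * z⁻¹ := by rw [h2, h3]
      _ = z * (z * (t * f * t⁻¹) * z⁻¹) * z⁻¹ := by group
      _ = _ := by rw [htf]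
  · rw [← hce, he, hc, hc]
    calc t * (z * f * z⁻¹) * t⁻¹ = (t * z * t⁻¹) * (t * f * t⁻¹) * (t * z * t⁻¹)⁻¹ := by group
      _ = z⁻¹ * f * z⁻¹⁻¹ := by rw [hinv, htf]
      _ = z * z * f * (z * z)⁻¹ := by rw [hz2]
      _ = _ := by group

theorem perm_three : ∀ a b : Equiv.Perm (Fin 3), Equiv.Perm.sign b = -1 →
    Equiv.Perm.sign a = 1 → a ≠ 1 → a⁻¹ * (b * a * b⁻¹) ≠ 1 := by decide

theorem exists_perm_three : ∃ a b : Equiv.Perm (Fin 3), Equiv.Perm.sign a = 1 ∧ a ≠ 1 ∧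
    Equiv.Perm.sign b = -1 :=
  ⟨Equiv.swap 0 1 * Equiv.swap 1 2, Equiv.swap 0 1, by decide, by decide, by decide⟩

theorem dvd_of_eq_of_dvd {a b c : ℕ} (h : a = b) (h' : b ∣ c) : a ∣ c := h ▸ h'

theorem perm_cube : ∀ a : Equiv.Perm (Fin 3), Equiv.Perm.sign a = 1 → a ^ 3 = 1 := by decide

/-- `X / O₂(X)` has no section `S₃`. -/
theorem noS3_quot {X : Type*} [Group X] [Finite X]
    (h4 : ¬ Cfsg.Involves (Equiv.Perm (Fin 4)) X)
    (hc : Subgroup.centralizer (Cfsg.pCore 2 X : Set X) ≤ Cfsg.pCore 2 X) :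
    ¬ Cfsg.Involves (Equiv.Perm (Fin 3)) (X ⧸ Cfsg.pCore 2 X) := by
  haveI : Fact (Nat.Prime 2) := ⟨Nat.prime_two⟩
  haveI : Fact (Nat.Prime 3) := ⟨Nat.prime_three⟩
  intro h
  obtain ⟨K', φ, hφ⟩ := exists_hom_of_involves h
  set π := QuotientGroup.mk' (Cfsg.pCore 2 X) with hπ
  set K := K'.comap π with hK
  let φ₀ : ↥K →* Equiv.Perm (Fin 3) := φ.comp (π.subgroupComap K')
  have hφ₀ : Function.Surjective φ₀ := by
    intro p
    obtain ⟨⟨y, hy⟩, hy'⟩ := hφ p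
    obtain ⟨x, rfl⟩ := QuotientGroup.mk'_surjective (Cfsg.pCore 2 X) y
    exact ⟨⟨x, hy⟩, hy'⟩
  set σ : ↥K →* ℤˣ := Equiv.Perm.sign.comp φ₀ with hσ
  set K₃ := σ.ker with hK₃
  obtain ⟨P⟩ : Nonempty (Sylow 3 ↥K₃) := inferInstance
  set P₃ := (P : Subgroup ↥K₃).map K₃.subtype with hP₃
  have hP₃p : IsPGroup 3 ↥P₃ := P.2.map _
  obtain ⟨a₀, b₀, ha₀, ha₁, hb₀⟩ := exists_perm_three
  -- an odd element normalising `P₃`
  obtain ⟨k₀, hk₀⟩ := hφ₀ b₀
  have hk : k₀ ∈ normalizer (P₃ : Set ↥K) ⊔ K₃ := by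
    rw [Sylow.normalizer_sup_eq_top P]; trivial
  obtain ⟨n, hn, m, hm, hnm⟩ := mem_sup_of_normal_right.1 hk
  have hσn : σ n = -1 := by
    have h1 : σ (n * m) = -1 := by rw [hnm, hσ, MonoidHom.comp_apply, hk₀, hb₀]
    rwa [map_mul, show σ m = 1 from hm, mul_one] at h1
  obtain ⟨a, d, hd, hnd⟩ : ∃ a d, Odd d ∧ orderOf n = 2 ^ a * d := by
    obtain ⟨a, d, hd, h⟩ := Nat.exists_eq_two_pow_mul_odd (orderOf_pos n).ne'
    exact ⟨a, d, hd, h⟩
  set t := n ^ d with ht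
  have htp : t ^ (2 ^ a) = 1 := by rw [ht, ← pow_mul, mul_comm, ← hnd, pow_orderOf_eq_one]
  have ht2 : IsPGroup 2 ↥(zpowers t) := by
    obtain ⟨k, -, hk⟩ := (Nat.dvd_prime_pow Nat.prime_two).1 (orderOf_dvd_of_pow_eq_one htp)
    exact IsPGroup.of_card (Nat.card_zpowers t ▸ hk)
  have hσt : σ t = -1 := by rw [ht, map_pow, hσn, hd.neg_one_pow]
  have htN : t ∈ normalizer (P₃ : Set ↥K) := pow_mem hn d
  -- an element of `P₃` outside the kernel
  obtain ⟨x, hx, hφx⟩ : ∃ x ∈ P₃, φ₀ x ≠ 1 := by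
    by_contra hcon
    push Not at hcon
    let ψ : ↥K₃ →* Equiv.Perm (Fin 3) := φ₀.comp K₃.subtype
    have hle : (P : Subgroup ↥K₃) ≤ ψ.ker := fun p hp => hcon _ ⟨p, hp, rfl⟩
    have h3 : 3 ∣ ψ.ker.index := by
      rw [index_ker]
      obtain ⟨k₁, hk₁⟩ := hφ₀ a₀
      have hk₁K : k₁ ∈ K₃ := by
        show σ k₁ = 1
        rw [hσ, MonoidHom.comp_apply, hk₁, ha₀]
      have h3' : orderOf (φ₀ k₁) = 3 := by
        rw [hk₁]
        exact orderOf_eq_prime (perm_cube a₀ ha₀) ha₁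
      exact dvd_of_eq_of_dvd h3'.symm (Subgroup.orderOf_dvd_natCard ψ.range ⟨⟨k₁, hk₁K⟩, rfl⟩)
    exact P.not_dvd_index (h3.trans (Subgroup.index_dvd_of_le hle))
  -- fixed by `t²`
  have htt : zpowers (t * t) ≤ normalizer (P₃ : Set ↥K) := zpowers_le.2 (mul_mem htN htN)
  have hA2 : IsPGroup 2 ↥(zpowers (t * t)) :=
    ht2.to_le (zpowers_le.2 (mul_mem (mem_zpowers t) (mem_zpowers t)))
  obtain ⟨u, hu, x', ⟨hx'P, hx'c⟩, hxe⟩ := Coprime.exists_commutator_mul_fixed htt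
    (IsPGroup.coprime_card_of_ne 2 3 (by norm_num) _ _ hA2 hP₃p)
    (Or.inl (Coprime.isSolvable_zpowers _)) hx
  have hφtt : φ₀ (t * t) = 1 := by
    have h1 : Equiv.Perm.sign (φ₀ (t * t)) = 1 := by
      show σ (t * t) = 1
      rw [map_mul, hσt]; rfl
    have h2 : (φ₀ (t * t)) ^ (2 ^ a) = 1 := by
      rw [← map_pow, (Commute.refl t).mul_pow, htp, one_mul, map_one]
    have h3 := perm_cube
    have hco : Nat.Coprime (2 ^ a) 3 := Nat.Coprime.pow_left _ (by norm_num)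
    exact orderOf_eq_one_iff.1 (Nat.eq_one_of_dvd_coprimes hco
      (orderOf_dvd_of_pow_eq_one h2) (orderOf_dvd_of_pow_eq_one (h3 _ h1)))
  have hφu : φ₀ u = 1 := by
    have hle : ⁅P₃, zpowers (t * t)⁆ ≤ φ₀.ker := by
      rw [← Subgroup.map_eq_bot_iff, Subgroup.map_commutator, MonoidHom.map_zpowers, hφtt]
      simp
    exact hle hu
  have hφx' : φ₀ x' ≠ 1 := by
    intro h; apply hφx; rw [hxe, map_mul, hφu, h, one_mul]
  set y := x'⁻¹ * (t * x' * t⁻¹) with hy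
  have hσx' : Equiv.Perm.sign (φ₀ x') = 1 := by
    obtain ⟨q, -, hq⟩ := hx'P
    rw [← hq]
    exact q.2
  have hy1 : φ₀ y ≠ 1 := by
    rw [hy, map_mul, map_inv, map_mul, map_mul, map_inv]
    exact perm_three _ _ (by rw [← hσt]; rfl) hσx' hφx'
  have hyP : y ∈ P₃ :=
    mul_mem (inv_mem hx'P) ((mem_normalizer_iff.1 htN x').1 hx'P)
  have hyi : t * y * t⁻¹ = y⁻¹ := by
    have h2 : t * t * x' * (t * t)⁻¹ = x' := by
      rw [mem_centralizer_iff.1 hx'c _ (mem_zpowers _), mul_inv_cancel_right]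
    calc t * y * t⁻¹ = (t * x'⁻¹ * t⁻¹) * (t * t * x' * (t * t)⁻¹) := by rw [hy]; group
      _ = (t * x'⁻¹ * t⁻¹) * x' := by rw [h2]
      _ = y⁻¹ := by rw [hy]; group
  -- its power of order three
  obtain ⟨z, hz3, hz1, hzi⟩ : ∃ z : ↥K, z ^ 3 = 1 ∧ z ≠ 1 ∧ t * z * t⁻¹ = z⁻¹ := by
    obtain ⟨j, hj⟩ := hP₃p ⟨y, hyP⟩
    have hj' : y ^ (3 ^ j) = 1 := congrArg Subtype.val hj
    obtain ⟨i, -, hi⟩ := (Nat.dvd_prime_pow Nat.prime_three).1 (orderOf_dvd_of_pow_eq_one hj')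
    rcases i with _ | i
    · rw [pow_zero, orderOf_eq_one_iff] at hi
      exact absurd (by rw [hi, map_one]) hy1
    refine ⟨y ^ (3 ^ i), ?_, ?_, ?_⟩
    · rw [← pow_mul, ← pow_succ, ← hi, pow_orderOf_eq_one]
    · intro h
      have := Nat.le_of_dvd (by positivity) (orderOf_dvd_of_pow_eq_one h)
      rw [hi] at this
      exact absurd this (not_le.2 (Nat.pow_lt_pow_succ (by norm_num)))
    · rw [← conj_pow, hyi, inv_pow]
  -- down to `O₂ / Φ(O₂)`
  set Q := Cfsg.pCore 2 X with hQ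
  have hQp : IsPGroup 2 ↥Q := Cores.pCore_isPGroup 2
  set Φ := (frattini ↥Q).map Q.subtype with hΦ
  haveI : Φ.Normal := Cores.normal_map_subtype Q (frattini ↥Q)
  set ρ := QuotientGroup.mk' Φ with hρ
  have hzQ : (z : X) ∉ Q := by
    intro hzmem
    obtain ⟨j, hj⟩ := hQp ⟨z, hzmem⟩
    have hj' : (z : X) ^ (2 ^ j) = 1 := congrArg Subtype.val hj
    refine hz1 (Subtype.ext (orderOf_eq_one_iff.1 (Nat.eq_one_of_dvd_coprimes
      (Nat.Coprime.pow_left j (by norm_num : Nat.Coprime 2 3))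
      (orderOf_dvd_of_pow_eq_one hj') (orderOf_dvd_of_pow_eq_one ?_))))
    exact (SubmonoidClass.coe_pow z 3).symm.trans (congrArg Subtype.val hz3)
  have hne : ∃ v ∈ Q.map ρ, ρ z * v * (ρ z)⁻¹ ≠ v := by
    by_contra hcon
    push Not at hcon
    have hle : zpowers (z : X) ≤ (Subgroup.centralizer ((Q.map ρ : Subgroup _) : Set (X ⧸ Φ))).comap ρ := by
      rw [zpowers_le, mem_comap, mem_centralizer_iff]
      intro v hv
      have := hcon v hv
      rw [mul_inv_eq_iff_eq_mul] at this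
      exact this.symm
    have hcent : zpowers (z : X) ≤ Subgroup.centralizer (Q : Set X) := by
      refine Coprime.le_centralizer_of_frattini (fun g _ => ?_) ?_ fun g hg k hk => ?_
      · rw [normalizer_eq_top]; trivial
      · refine Nat.Coprime.coprime_dvd_right (card_subgroup_dvd_card _) ?_
        refine IsPGroup.coprime_card_of_ne 3 2 (by norm_num) _ _ ?_ hQp
        have ho : orderOf (z : X) = 3 := orderOf_eq_prime
          ((SubmonoidClass.coe_pow z 3).symm.trans (congrArg Subtype.val hz3))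
          (fun h => hz1 (Subtype.ext h))
        exact IsPGroup.of_card (n := 1) (by rw [Nat.card_zpowers, ho, pow_one])
      · rw [← hΦ, ← QuotientGroup.eq_one_iff]
        show ρ (g * k * g⁻¹ * k⁻¹) = 1
        rw [map_mul, map_mul, map_mul, map_inv, map_inv]
        rw [← mem_centralizer_iff.1 (hle hg) (ρ k) (mem_map_of_mem _ hk)]
        group
    exact hzQ (hc (hcent (mem_zpowers _)))
  refine h4 (involves_of_surjective ρ (QuotientGroup.mk'_surjective Φ)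
    (module_four (V := Q.map ρ) (z := ρ z) (t := ρ t) ?_ ?_ ?_ ?_ ?_ ?_ hne))
  · rintro _ ⟨v, hv, rfl⟩
    rw [← map_mul]
    refine (QuotientGroup.eq_one_iff _).2 ⟨⟨v, hv⟩ * ⟨v, hv⟩, ?_, rfl⟩
    rw [← pow_two]
    exact PGroups.pow_mem_frattini hQp _
  · rintro _ ⟨v, hv, rfl⟩
    exact ⟨z * v * (z : X)⁻¹, Normal.conj_mem inferInstance v hv _, by simp⟩
  · rintro _ ⟨v, hv, rfl⟩
    exact ⟨t * v * (t : X)⁻¹, Normal.conj_mem inferInstance v hv _, by simp⟩
  · rw [← map_pow, ← SubmonoidClass.coe_pow, hz3, OneMemClass.coe_one, map_one]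
  · rw [← map_mul, ← map_inv, ← map_mul, ← map_inv]
    exact congrArg ρ (congrArg Subtype.val hzi)
  · have h1 := ht2.map (ρ.comp K.subtype)
    rwa [MonoidHom.map_zpowers] at h1

end Cfsg.Agent.Lib.SFourFree67
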